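import Groth.Agent.ComodLib.Invariants
import Mathlib.RingTheory.Etale.Basic
import Mathlib.RingTheory.TensorProduct.Quotient
import Mathlib.RingTheory.Spectrum.Prime.Topology

/-!
Strongly étale equivariant maps of affine schemes.
-/

set_option autoImplicit false
set_option linter.unusedSectionVars false

universe u

open TensorProduct

namespace Groth.Agent.StrEt66

variable {k : Type u} [Field k] {A : Type u} [CommRing A] [HopfAlgebra k A]
  {R : Type u} [CommRing R] [Algebra k R] [HopfRep.Comod k A R] [GLin.IsCoactAlg k A R]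

/-- The projection onto the invariants is linear over the invariants. -/
theorem rey_mul_invariant (α : A →ₗ[k] k) {i : R} (hi : i ∈ GLin.invariants k A R) (r : R) :
    ComodLib.rey α (i * r) = i * ComodLib.rey α r := by
  have hc : Hoch.IsComodHom A (LinearMap.mulLeft k i) := by
    refine LinearMap.ext fun v => ?_
    simp only [LinearMap.comp_apply, LinearMap.mulLeft_apply]
    rw [GLin.IsCoactAlg.coact_mul, show HopfRep.Comod.coact (k := k) (A := A) i = i ⊗ₜ[k] (1 : A) from hi]
    induction HopfRep.Comod.coact (k := k) (A := A) v using TensorProduct.induction_on with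
    | zero => simp
    | tmul p q => simp
    | add p q hp hq => simp only [map_add, mul_add, hp, hq]
  exact (ComodLib.map_rey hc r).symm

/-- Invariants are constant along orbits. -/
theorem orbitHom_invariant (x : R →ₐ[k] k) {i : R} (hi : i ∈ GLin.invariants k A R) :
    GLin.orbitHom k A x i = algebraMap k A (x i) := by
  simp only [GLin.orbitHom, AlgHom.comp_apply, GLin.coactAlgHom_apply, show HopfRep.Comod.coact (k := k) (A := A) i = i ⊗ₜ[k] (1 : A) from hi,
    Algebra.TensorProduct.map_tmul, AlgHom.id_apply]
  simp [Algebra.algebraMap_eq_smul_one]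

variable {S : Type u} [CommRing S] [Algebra k S] [HopfRep.Comod k A S] [GLin.IsCoactAlg k A S]

theorem orbitHom_comp (φ : S →ₐ[k] R)
    (hφ : ∀ s, HopfRep.Comod.coact (k := k) (A := A) (φ s) =
      Algebra.TensorProduct.map φ (AlgHom.id k A) (HopfRep.Comod.coact (k := k) (A := A) s))
    (x : R →ₐ[k] k) (s : S) : GLin.orbitHom k A x (φ s) = GLin.orbitHom k A (x.comp φ) s := by
  simp only [GLin.orbitHom, AlgHom.comp_apply, GLin.coactAlgHom_apply, hφ]
  congr 1
  induction HopfRep.Comod.coact (k := k) (A := A) s using TensorProduct.induction_on with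
  | zero => simp
  | tmul p q => simp
  | add p q hp hq => simp only [map_add, hp, hq]

theorem isComodHom_of_map (φ : S →ₐ[k] R)
    (hφ : ∀ s, HopfRep.Comod.coact (k := k) (A := A) (φ s) =
      Algebra.TensorProduct.map φ (AlgHom.id k A) (HopfRep.Comod.coact (k := k) (A := A) s)) :
    Hoch.IsComodHom A φ.toLinearMap := by
  refine LinearMap.ext fun s => ?_
  simp only [LinearMap.comp_apply, AlgHom.toLinearMap_apply]
  rw [hφ]
  induction HopfRep.Comod.coact (k := k) (A := A) s using TensorProduct.induction_on with
  | zero => simp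
  | tmul p q => simp
  | add p q hp hq => simp only [map_add, hp, hq]

/-- Invariants of a quotient are images of invariants. -/
theorem exists_invariant_lift (hG : HopfRep.IsLinearlyReductive k A) (φ : S →ₐ[k] R)
    (hφ : ∀ s, HopfRep.Comod.coact (k := k) (A := A) (φ s) =
      Algebra.TensorProduct.map φ (AlgHom.id k A) (HopfRep.Comod.coact (k := k) (A := A) s))
    (hs : Function.Surjective φ) {r : R} (hr : r ∈ GLin.invariants k A R) :
    ∃ s ∈ GLin.invariants k A S, φ s = r := by
  obtain ⟨α, hα, h1⟩ := ComodLib.exists_integral_of_isLinearlyReductive hG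
  obtain ⟨s, rfl⟩ := hs r
  refine ⟨ComodLib.rey α s, ComodLib.rey_mem_fixedPts hα s, ?_⟩
  exact (ComodLib.map_rey (isComodHom_of_map φ hφ) s).trans (ComodLib.rey_of_fixed h1 hr)

end Groth.Agent.StrEt66
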